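import Mathlib.FieldTheory.Finite.GaloisField
import Mathlib.FieldTheory.Normal.Basic
import Mathlib.RingTheory.LittleWedderburn
import Mathlib.RingTheory.Artinian.Ring
import Mathlib.RingTheory.Jacobson.Radical
import Mathlib.LinearAlgebra.Lagrange
import Mathlib.Algebra.Algebra.Operations

/-!
# Local algebras over finite fields, and the idempotents attached to split separable elements
-/

set_option autoImplicit false
set_option linter.style.haveILetI false

universe u v

open Polynomial

noncomputable section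

namespace GrothLib.GeomDec11

variable {k : Type u} [Field k] [Finite k]

theorem pow_expand (p : k[X]) : ∀ t : ℕ, p ^ (Nat.card k ^ t) = expand k (Nat.card k ^ t) p := by
  haveI := Fintype.ofFinite k
  intro t
  induction t with
  | zero => simp
  | succ t ih =>
    rw [pow_succ, pow_mul, ih, Nat.card_eq_fintype_card, ← FiniteField.expand_card, expand_expand, mul_comm]

variable {A : Type v} [Ring A] [Algebra k A] [Module.Finite k A] [Nontrivial A]

/-- **A finite local algebra over a finite field has a field of representatives for its residue field.** -/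
theorem exists_residue_section (hloc : ∀ x : A, IsUnit x ∨ IsNilpotent x) :
    ∃ (a : A) (m : k[X]) (I : Submodule k A), m.Monic ∧ Irreducible m ∧ aeval a m = 0 ∧ IsNilpotent I ∧
      (∀ x, ∃ p : k[X], x - aeval a p ∈ I) ∧ (∀ x y, x * y - y * x ∈ I) := by
  classical
  haveI : Finite A := Module.finite_of_finite k
  haveI : IsArtinianRing A := inferInstance
  let J : Ideal A := Ring.jacobson A
  obtain ⟨N, hN⟩ : IsNilpotent J := by
    have h := IsArtinianRing.isNilpotent_jacobson_bot (R := A)
    rwa [Ideal.jacobson_bot] at h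
  have hN' : ∀ x ∈ J, x ^ N = 0 := fun x hx => by
    simpa [hN] using Ideal.pow_mem_pow hx N
  have hJ : ∀ x, IsNilpotent x → x ∈ J := fun x hx => by
    show x ∈ Ring.jacobson A
    rw [← Ideal.jacobson_bot, Ideal.mem_jacobson_iff]
    intro y
    have hn : IsNilpotent (y * x) := (hloc (y * x)).resolve_left fun hu => by
      obtain ⟨u, hu⟩ := hu
      have h1 : ((u⁻¹ : Aˣ) : A) * y * x = 1 := by rw [mul_assoc, ← hu, Units.inv_mul]
      obtain ⟨n, hn⟩ := hx
      have h2 : ∀ j, (((u⁻¹ : Aˣ) : A) * y) ^ j * x ^ j = 1 := by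
        intro j
        induction j with
        | zero => simp
        | succ j ih =>
          rw [pow_succ, pow_succ', mul_assoc, ← mul_assoc _ x, h1, one_mul, ih]
      exact one_ne_zero (α := A) (by rw [← h2 n, hn, mul_zero])
    obtain ⟨z, hz⟩ := hn.isUnit_add_one
    refine ⟨((z⁻¹ : Aˣ) : A), ?_⟩
    have e : ((z⁻¹ : Aˣ) : A) * y * x + ((z⁻¹ : Aˣ) : A) = ((z⁻¹ : Aˣ) : A) * (y * x + 1) := by
      rw [mul_add, mul_one, mul_assoc]
    rw [Ideal.mem_bot, e, ← hz, Units.inv_mul, sub_self]
  have hJ' : ∀ x, x ∈ J → IsNilpotent x := fun x hx => ⟨N, hN' x hx⟩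
  let π : A →ₐ[k] A ⧸ J := Ideal.Quotient.mkₐ k J
  have hπ : ∀ x, π x = 0 ↔ x ∈ J := fun x => Ideal.Quotient.eq_zero_iff_mem
  have hunit : ∀ w : A ⧸ J, w ≠ 0 → IsUnit w := fun w hw => by
    obtain ⟨x, rfl⟩ := Ideal.Quotient.mk_surjective w
    exact ((hloc x).resolve_right fun h => hw (Ideal.Quotient.eq_zero_iff_mem.2 (hJ x h))).map (Ideal.Quotient.mk J)
  haveI : Nontrivial (A ⧸ J) := ⟨⟨1, 0, fun h => not_isNilpotent_one (R := A) (hJ' 1 ((hπ 1).1 ((map_one π).trans h)))⟩⟩
  haveI : NoZeroDivisors (A ⧸ J) := ⟨fun {a b} h => by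
    by_contra hc
    push_neg at hc
    exact hc.2 (((hunit a hc.1).mul_right_eq_zero).1 h)⟩
  haveI : IsDomain (A ⧸ J) := NoZeroDivisors.to_isDomain _
  haveI : Finite (A ⧸ J) := Finite.of_surjective _ Ideal.Quotient.mk_surjective
  let hF : IsField (A ⧸ J) := Finite.isDomain_to_isField _
  letI : CommRing (A ⧸ J) := { (inferInstance : Ring (A ⧸ J)) with mul_comm := hF.mul_comm }
  letI : Field (A ⧸ J) := hF.toField
  haveI := Fintype.ofFinite (A ⧸ J)
  haveI := Fintype.ofFinite k
  obtain ⟨g, hg⟩ := IsCyclic.exists_generator (α := (A ⧸ J)ˣ)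
  obtain ⟨x₀, hx₀⟩ := Ideal.Quotient.mk_surjective (g : A ⧸ J)
  obtain ⟨d, hd⟩ : ∃ d : ℕ, Nat.card (A ⧸ J) = Nat.card k ^ d := by
    refine ⟨Module.finrank k (A ⧸ J), ?_⟩
    rw [Nat.card_eq_fintype_card, Nat.card_eq_fintype_card, ← Module.card_eq_pow_finrank]
  let Q := Nat.card k ^ d
  have hQ : ∀ w : A ⧸ J, w ^ Q = w := fun w => by
    have := FiniteField.pow_card w
    rwa [← Nat.card_eq_fintype_card, hd] at this
  have hQ1 : 1 < Q := by
    show 1 < Nat.card k ^ d
    rw [← hd]
    exact Finite.one_lt_card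
  let a : A := x₀ ^ (Q ^ N)
  have haQ : a ^ Q = a := by
    have h1 : x₀ ^ Q - x₀ ∈ J := (hπ _).1 (by rw [map_sub, map_pow, hQ, sub_self])
    have h2 : (x₀ ^ Q - x₀) ^ (Q ^ N) = 0 :=
      pow_eq_zero_of_le (Nat.lt_pow_self hQ1).le (hN' _ h1)
    have h3 : ((X : k[X]) ^ Q - X) ^ (Q ^ N) = X ^ (Q * Q ^ N) - X ^ (Q ^ N) := by
      show ((X : k[X]) ^ Q - X) ^ ((Nat.card k ^ d) ^ N) = X ^ (Q * (Nat.card k ^ d) ^ N) - X ^ ((Nat.card k ^ d) ^ N)
      rw [← pow_mul, pow_expand, map_sub, map_pow, expand_X, ← pow_mul, mul_comm]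
    have h4 := congrArg (aeval x₀) h3
    simp only [map_sub, map_pow, aeval_X, h2] at h4
    show (x₀ ^ (Q ^ N)) ^ Q = x₀ ^ (Q ^ N)
    rw [← pow_mul, mul_comm]
    exact (sub_eq_zero.1 h4.symm)
  have hπQ : ∀ t : ℕ, ∀ w : A ⧸ J, w ^ (Q ^ t) = w := fun t w => by
    induction t with
    | zero => simp
    | succ t ih => rw [pow_succ, pow_mul, ih, hQ]
  have hπa : π a = g := by
    show π (x₀ ^ (Q ^ N)) = g
    rw [map_pow, hπQ N]
    exact hx₀
  have hsurj : ∀ x, ∃ p : k[X], x - aeval a p ∈ J := fun x => by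
    by_cases hx : π x = 0
    · exact ⟨0, by simpa using (hπ x).1 hx⟩
    · obtain ⟨n, hn⟩ := mem_powers_iff_mem_zpowers.2 (hg (hunit _ hx).unit)
      refine ⟨X ^ n, (hπ _).1 ?_⟩
      rw [map_sub, map_pow, aeval_X, map_pow, hπa, ← Units.val_pow_eq_pow_val]
      show π x - _ = 0
      rw [show g ^ n = (hunit _ hx).unit from hn]
      exact sub_self _
  let m : k[X] := minpoly k (g : A ⧸ J)
  have hint : IsIntegral k (g : A ⧸ J) := IsIntegral.of_finite k _
  have hm0 : aeval a m = 0 := by
    have h1 : aeval a m ∈ J := (hπ _).1 (by rw [← aeval_algHom_apply, hπa]; exact minpoly.aeval k _)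
    have h2 : aeval a m ^ Q = aeval a m := by
      show aeval a m ^ (Nat.card k ^ d) = _
      rw [← map_pow, pow_expand, expand_aeval]
      show aeval (a ^ Q) m = _
      rw [haQ]
    have h3 : ∀ t : ℕ, aeval a m ^ (Q ^ t) = aeval a m := fun t => by
      induction t with
      | zero => simp
      | succ t ih => rw [pow_succ, pow_mul, ih, h2]
    rw [← h3 N]
    exact pow_eq_zero_of_le (Nat.lt_pow_self hQ1).le (hN' _ h1)
  refine ⟨a, m, J.restrictScalars k, minpoly.monic hint, minpoly.irreducible hint, hm0, ⟨N + 1, ?_⟩, hsurj,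
    fun x y => (hπ _).1 (by rw [map_sub, map_mul, map_mul, mul_comm, sub_self])⟩
  have hle : ∀ n : ℕ, 0 < n → (J.restrictScalars k) ^ n ≤ (J ^ n).restrictScalars k := by
    intro n hn
    induction n with
    | zero => omega
    | succ n ih =>
      rcases Nat.eq_zero_or_pos n with rfl | h
      · intro x hx
        rw [Submodule.pow_one] at hx
        rw [Submodule.restrictScalars_mem, Submodule.pow_one]
        exact hx
      · rw [Submodule.pow_succ, Submodule.mul_le]
        exact fun x hx y hy => by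
          rw [Submodule.restrictScalars_mem, Submodule.pow_succ]
          exact Ideal.mul_mem_mul (ih h hx) hy
  have h := hle (N + 1) (by omega)
  rw [Submodule.pow_succ (M := J), hN, Submodule.zero_eq_bot, Submodule.bot_mul, Submodule.restrictScalars_bot] at h
  exact le_bot_iff.1 h

/-- A split separable polynomial over a finite field, with its roots conjugate. -/
theorem exists_roots (K : Type u) [Field K] [Algebra k K] {m : k[X]} (hm : m.Monic) (hi : Irreducible m)
    (hK : Module.finrank k K = m.natDegree) :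
    ∃ l : Fin m.natDegree → K, Function.Injective l ∧
      m.map (algebraMap k K) = ∏ i, (X - C (l i)) ∧ ∀ i j, ∃ σ : K ≃ₐ[k] K, σ (l i) = l j := by
  classical
  haveI : Module.Finite k K := Module.finite_of_finrank_pos (hK ▸ hi.natDegree_pos)
  haveI : Finite K := Module.finite_of_finite k
  haveI := Fact.mk hi
  obtain ⟨φ⟩ : Nonempty (AdjoinRoot m →ₐ[k] K) := FiniteField.nonempty_algHom_of_finrank_dvd (by
    rw [(AdjoinRoot.powerBasis hi.ne_zero).finrank, AdjoinRoot.powerBasis_dim, hK])
  let ρ := φ (AdjoinRoot.root m)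
  have hρ : aeval ρ m = 0 := by
    rw [aeval_algHom_apply, AdjoinRoot.aeval_eq, AdjoinRoot.mk_self, map_zero]
  have hmin : minpoly k ρ = m := (minpoly.eq_of_irreducible_of_monic hi hρ hm).symm
  have hsp : (m.map (algebraMap k K)).Splits := hmin ▸ Normal.splits (inferInstance : Normal k K) ρ
  have hsep : m.Separable := PerfectField.separable_of_irreducible hi
  let e : Fin m.natDegree ≃ m.rootSet K := (Fintype.equivFinOfCardEq (card_rootSet_eq_natDegree hsep hsp)).symm
  refine ⟨fun i => (e i).1, fun i j h => e.injective (Subtype.ext h), ?_, fun i j => ?_⟩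
  · refine (eq_of_monic_of_dvd_of_natDegree_le (monic_prod_of_monic Finset.univ _ fun i _ => monic_X_sub_C (e i).1) (hm.map (algebraMap k K)) ?_ ?_)
    · refine Fintype.prod_dvd_of_coprime ?_ fun i => dvd_iff_isRoot.2 ?_
      · exact Polynomial.pairwise_coprime_X_sub_C (fun i j h => e.injective (Subtype.ext h))
      · have := (mem_rootSet.1 (e i).2).2
        rwa [IsRoot, eval_map_algebraMap]
    · rw [natDegree_map, natDegree_prod_of_monic _ _ (fun i _ => monic_X_sub_C (e i).1)]
      simp
  · have hj := (mem_rootSet.1 (e j).2).2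
    have hi' := (mem_rootSet.1 (e i).2).2
    exact minpoly.exists_algEquiv_of_root' (Algebra.IsAlgebraic.isAlgebraic _)
      (by rw [← minpoly.eq_of_irreducible_of_monic hi hi' hm]; exact hj)

/-- The Lagrange idempotents of an element killed by a split separable polynomial. -/
theorem lagrange_idem {K : Type u} [Field K] {B : Type v} [Ring B] [Algebra K B] {d : ℕ} (l : Fin d → K)
    (hl : Function.Injective l) (hd : 0 < d) (ψ : B) (hψ : aeval ψ (∏ i, (X - C (l i))) = 0) :
    (∑ i, aeval ψ (Lagrange.basis Finset.univ l i) = 1) ∧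
      (∀ i j, i ≠ j → aeval ψ (Lagrange.basis Finset.univ l i) * aeval ψ (Lagrange.basis Finset.univ l j) = 0) ∧
      (∀ i, aeval ψ (Lagrange.basis Finset.univ l i) * aeval ψ (Lagrange.basis Finset.univ l i) =
        aeval ψ (Lagrange.basis Finset.univ l i)) := by
  classical
  haveI : Nonempty (Fin d) := ⟨⟨0, hd⟩⟩
  have hsum : ∑ i, aeval ψ (Lagrange.basis Finset.univ l i) = 1 := by
    rw [← map_sum, Lagrange.sum_basis hl.injOn Finset.univ_nonempty, map_one]
  have horth : ∀ i j, i ≠ j →
      aeval ψ (Lagrange.basis Finset.univ l i) * aeval ψ (Lagrange.basis Finset.univ l j) = 0 := fun i j hij => by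
    obtain ⟨q, hq⟩ : (∏ t, (X - C (l t))) ∣ Lagrange.basis Finset.univ l i * Lagrange.basis Finset.univ l j := by
      refine Fintype.prod_dvd_of_coprime (Polynomial.pairwise_coprime_X_sub_C hl) fun t => dvd_iff_isRoot.2 ?_
      rw [IsRoot, eval_mul]
      by_cases ht : t = i
      · rw [ht, Lagrange.eval_basis_of_ne (Ne.symm hij) (Finset.mem_univ _), mul_zero]
      · rw [Lagrange.eval_basis_of_ne (Ne.symm ht) (Finset.mem_univ _), zero_mul]
    rw [← map_mul, hq, map_mul, hψ, zero_mul]
  refine ⟨hsum, horth, fun i => ?_⟩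
  conv_rhs => rw [← mul_one (aeval ψ (Lagrange.basis Finset.univ l i)), ← hsum, Finset.mul_sum,
    Finset.sum_eq_single i (fun j _ hj => horth i j (Ne.symm hj)) (fun h => absurd (Finset.mem_univ i) h)]

end GrothLib.GeomDec11
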