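import Groth.Agent.Lib.GeomDec11.Alg
import Groth.Agent.Lib.ASBun21.EndSimple
import Groth.Agent.Lib.ASBun21.Descent
import Groth.Agent.Lib.GeomSS.Setup
import Groth.Agent.Lib.ModelK.Rank
import Groth.Agent.Lib.Euler.Rank
import Groth.Agent.Lib.Euler.InvHom
import Groth.Agent.Lib.OX.OneDegLocus
import Groth.Agent.Lib.AutSum11.Basic

/-!
# Indecomposable bundles over a finite field that decompose over an extension
-/

set_option autoImplicit false
set_option linter.style.haveILetI false
set_option backward.isDefEq.respectTransparency false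

universe u

open CategoryTheory CategoryTheory.Limits AlgebraicGeometry Polynomial

noncomputable section

namespace GrothLib.GeomDec11

variable (k : Type u) [Field k] {X : Scheme.{u}} [X.Over (Spec (CommRingCat.of k))]
  [IsProper (X ↘ Spec (CommRingCat.of k))] (K : Type u) [Field K] [Algebra k K]

/-- The pull-back functor to the extension. -/
abbrev pf : X.Modules ⥤ (Curv2.bc k X K).Modules := Scheme.Modules.pullback (Curv2.bcFst k X K)

theorem pf_map_smul {F G : X.Modules} (c : k) (φ : F ⟶ G) :
    (pf k K).map (c • φ) = algebraMap k K c • (pf (X := X) k K).map φ :=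
  ASBun21.map_smul_base (X ↘ Spec (CommRingCat.of k)) K c φ

theorem pf_expansion {ι : Type u} (b : Module.Basis ι k K) {F G : X.Modules} (hF : Coh.IsCoh F) (hG : Coh.IsCoh G)
    (ψ : (pf k K).obj F ⟶ (pf k K).obj G) :
    ∃ (s : Finset ι) (φ : ι → (F ⟶ G)), ψ = ∑ i ∈ s, b i • (pf (X := X) k K).map (φ i) := by
  haveI : CompactSpace X := QuasiCompact.compactSpace_of_compactSpace (X ↘ Spec (CommRingCat.of k))
  haveI := hF.1
  haveI := hG.1
  exact ASBun21.exists_expansion (X ↘ Spec (CommRingCat.of k)) K b ψ hF.2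

theorem pf_indep {ι : Type u} (b : Module.Basis ι k K) {F G : X.Modules} (hG : Coh.IsCoh G) (s : Finset ι)
    (φ : ι → (F ⟶ G)) (h : ∑ i ∈ s, b i • (pf (X := X) k K).map (φ i) = 0) : ∀ i ∈ s, φ i = 0 := by
  haveI := hG.1
  exact ASBun21.eq_zero_of_sum_eq_zero (X ↘ Spec (CommRingCat.of k)) K b s φ h

theorem pf_faithful {F G : X.Modules} (hG : Coh.IsCoh G) (φ : F ⟶ G) (h : (pf (X := X) k K).map φ = 0) : φ = 0 := by
  haveI := hG.1
  exact ASBun21.eq_zero_of_map_eq_zero (X ↘ Spec (CommRingCat.of k)) K φ h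

/-- Pull-back of endomorphisms. -/
def P (E : X.Modules) : End E →+* End ((pf k K).obj E) :=
  { (pf (X := X) k K).mapEnd E with
    map_zero' := (pf (X := X) k K).map_zero E E
    map_add' := fun a b => (pf (X := X) k K).map_add }

theorem P_smul (E : X.Modules) (c : k) (x : End E) : P k K E (c • x) = algebraMap k K c • P k K E x :=
  pf_map_smul k K c x

theorem P_aeval (E : X.Modules) (a : End E) (q : k[X]) :
    P k K E (aeval a q) = aeval (P k K E a) (q.map (algebraMap k K)) := by
  induction q using Polynomial.induction_on' with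
  | add p q hp hq => rw [map_add, map_add, hp, hq, Polynomial.map_add, map_add]
  | monomial n c =>
    rw [map_monomial, aeval_monomial, aeval_monomial, Algebra.algebraMap_eq_smul_one, smul_mul_assoc, one_mul,
      P_smul, map_pow, Algebra.algebraMap_eq_smul_one (algebraMap k K c), smul_mul_assoc, one_mul]

section Data

variable [Finite k] {E : X.Modules} (hE : Coh.IsCoh E) (hind : ASBun21.Indec E)

include hE hind in
theorem exists_endData : ∃ (a : End E) (m : k[X]) (I : Submodule k (End E)), m.Monic ∧ Irreducible m ∧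
    aeval a m = 0 ∧ IsNilpotent I ∧ (∀ x, ∃ q : k[X], x - aeval a q ∈ I) ∧ (∀ x y, x * y - y * x ∈ I) := by
  haveI : Module.Finite k (E ⟶ E) := ASBun21.finite_hom k hE hE
  haveI : Module.Finite k (End E) := ‹Module.Finite k (E ⟶ E)›
  haveI : Nontrivial (End E) := ⟨⟨𝟙 E, 0, fun h => hind.1 ((IsZero.iff_id_eq_zero E).2 h)⟩⟩
  exact exists_residue_section fun x => hind.isUnit_or_isNilpotent k x

end Data

section W

variable {E : X.Modules} (hE : Coh.IsCoh E) (I : Submodule k (End E)) (hI : IsNilpotent I)

/-- The extension of a space of endomorphisms. -/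
def W : Submodule K (End ((pf k K).obj E)) := Submodule.span K (P k K E '' (I : Set (End E)))

theorem P_mem_W {x : End E} (hx : x ∈ I) : P k K E x ∈ W k K I := Submodule.subset_span ⟨x, hx, rfl⟩

include hI in
theorem isNilpotent_of_mem_W {z : End ((pf k K).obj E)} (hz : z ∈ W k K I) : IsNilpotent z := by
  obtain ⟨N, hN⟩ := hI
  have hle : ∀ n : ℕ, 0 < n → W k K I ^ n ≤ Submodule.span K (P k K E '' ((I ^ n : Submodule k (End E)) : Set (End E))) := by
    intro n hn
    induction n with
    | zero => omega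
    | succ n ih =>
      rcases Nat.eq_zero_or_pos n with rfl | h
      · simp [W]
      · rw [pow_succ (W k K I), pow_succ I]
        refine (mul_le_mul' (ih h) le_rfl).trans ?_
        rw [W, Submodule.span_mul_span]
        refine Submodule.span_mono ?_
        rintro _ ⟨_, ⟨x, hx, rfl⟩, _, ⟨y, hy, rfl⟩, rfl⟩
        exact ⟨x * y, Submodule.mul_mem_mul hx hy, map_mul _ _ _⟩
  refine ⟨N + 1, ?_⟩
  have h := hle (N + 1) (by omega) (Submodule.pow_mem_pow _ hz (N + 1))
  rw [pow_succ I, hN, zero_mul] at h
  simpa using h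

include hE in
theorem mem_span_range (z : End ((pf k K).obj E)) : z ∈ Submodule.span K (Set.range (P k K E)) := by
  obtain ⟨s, φ, hφ⟩ := pf_expansion k K (Module.Basis.ofVectorSpace k K) hE hE z
  rw [hφ]
  exact Submodule.sum_mem _ fun i _ => Submodule.smul_mem _ _ (Submodule.subset_span ⟨φ i, rfl⟩)

variable (hcomm : ∀ x y : End E, x * y - y * x ∈ I)

include hE hcomm in
theorem comm_mem_W (y z : End ((pf k K).obj E)) : y * z - z * y ∈ W k K I := by
  induction mem_span_range k K hE y using Submodule.span_induction with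
  | mem y hy =>
    obtain ⟨y, rfl⟩ := hy
    induction mem_span_range k K hE z using Submodule.span_induction with
    | mem z hz =>
      obtain ⟨z, rfl⟩ := hz
      rw [← map_mul, ← map_mul, ← map_sub]
      exact P_mem_W k K I (hcomm y z)
    | zero => simp
    | add u v _ _ hu hv =>
      rw [mul_add, add_mul, add_sub_add_comm]
      exact add_mem hu hv
    | smul c u _ hu =>
      rw [mul_smul_comm, smul_mul_assoc, ← smul_sub]
      exact Submodule.smul_mem _ _ hu
  | zero => simp
  | add u v _ _ hu hv =>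
    rw [mul_add, add_mul, add_sub_add_comm]
    exact add_mem hu hv
  | smul c u _ hu =>
    rw [mul_smul_comm, smul_mul_assoc, ← smul_sub]
    exact Submodule.smul_mem _ _ hu

include hE hI in
/-- With residue field the ground field the module stays indecomposable. -/
theorem idem_trivial {a : End E} {m : k[X]} (hm : m.Monic) (hd : m.natDegree = 1) (ha : aeval a m = 0)
    (hsurj : ∀ x, ∃ q : k[X], x - aeval a q ∈ I) (z : End ((pf k K).obj E)) (hz : z * z = z) :
    z = 0 ∨ z = 1 := by
  obtain ⟨c, rfl⟩ : ∃ c : k, m = Polynomial.X + C c := ⟨_, hm.eq_X_add_C hd⟩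
  have ha' : a = algebraMap k (End E) (-c) := by
    rw [map_add, aeval_X, aeval_C] at ha
    rw [map_neg]
    exact eq_neg_of_add_eq_zero_left ha
  have hmem : z ∈ Submodule.span K {(1 : End ((pf k K).obj E))} ⊔ W k K I := by
    clear hz
    induction mem_span_range k K hE z using Submodule.span_induction with
    | mem y hy =>
      obtain ⟨y, rfl⟩ := hy
      obtain ⟨q, hq⟩ := hsurj y
      have e : P k K E y = algebraMap k K (q.eval (-c)) • (1 : End ((pf k K).obj E)) + P k K E (y - aeval a q) := by
        rw [map_sub, ha', aeval_algebraMap_apply, Algebra.algebraMap_eq_smul_one (A := End E), P_smul, map_one,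
          ← Polynomial.coe_aeval_eq_eval]
        abel
      rw [e]
      exact Submodule.add_mem_sup (Submodule.smul_mem _ _ (Submodule.mem_span_singleton_self _)) (P_mem_W k K I hq)
    | zero => exact zero_mem _
    | add u v _ _ hu hv => exact add_mem hu hv
    | smul t u _ hu => exact Submodule.smul_mem _ _ hu
  obtain ⟨_, h1, w, hw, rfl⟩ := Submodule.mem_sup.1 hmem
  obtain ⟨t, rfl⟩ := Submodule.mem_span_singleton.1 h1
  obtain ⟨N, hN⟩ := isNilpotent_of_mem_W k K I hI hw
  set Z := t • (1 : End ((pf k K).obj E)) + w with hZ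
  have hw' : w = Z - t • 1 := by rw [hZ]; abel
  have key : ∀ n : ℕ, Z * w ^ n = (1 - t) ^ n • Z := by
    intro n
    induction n with
    | zero => simp
    | succ n ih =>
      rw [pow_succ, ← mul_assoc, ih, smul_mul_assoc, pow_succ, mul_smul]
      refine congrArg ((1 - t) ^ n • ·) ?_
      rw [hw', mul_sub, hz, mul_smul_comm, mul_one, sub_smul, one_smul]
  by_cases ht : t = 1
  · right
    subst ht
    rw [one_smul] at hZ
    have h1 : w * w = -w := by
      have h2 : (1 + w) * (1 + w) = 1 + w := by rw [← hZ]; exact hz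
      have h3 : (1 + w) * (1 + w) = 1 + w + (w + w * w) := by noncomm_ring
      rw [h3, add_eq_left] at h2
      exact eq_neg_of_add_eq_zero_right h2
    have h4 : ∀ n : ℕ, w ^ (n + 1) = (-1 : K) ^ n • w := by
      intro n
      induction n with
      | zero => simp
      | succ n ih => rw [pow_succ, ih, smul_mul_assoc, h1, pow_succ, mul_smul, neg_one_smul]
    have h5 : w = 0 := by
      have := h4 N
      rw [pow_succ, hN, zero_mul] at this
      exact (smul_eq_zero.1 this.symm).resolve_left (pow_ne_zero _ (neg_ne_zero.2 one_ne_zero))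
    rw [hZ, h5, add_zero]
  · left
    have := key N
    rw [hN, mul_zero] at this
    exact (smul_eq_zero.1 this.symm).resolve_left (pow_ne_zero _ (sub_ne_zero.2 (Ne.symm ht)))

end W

/-- A splitting of the pulled back module along Lagrange idempotents. -/
structure Split (E : X.Modules) (a : End E) (d : ℕ) (l : Fin d → K) where
  M : Fin d → (Curv2.bc k X K).Modules
  inc : ∀ i, M i ⟶ (pf k K).obj E
  prj : ∀ i, (pf k K).obj E ⟶ M i
  inc_prj : ∀ i, inc i ≫ prj i = 𝟙 (M i)
  ortho : ∀ i j, i ≠ j → inc i ≫ prj j = 0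
  prj_inc : ∀ i, prj i ≫ inc i = aeval (P k K E a) (Lagrange.basis Finset.univ l i)
  total : ∑ i, prj i ≫ inc i = 𝟙 ((pf k K).obj E)

theorem exists_split {E : X.Modules} {a : End E} {m : k[X]} (ha : aeval a m = 0) {d : ℕ} (hd : 0 < d)
    (l : Fin d → K) (hl : Function.Injective l) (hm : m.map (algebraMap k K) = ∏ i, (Polynomial.X - C (l i))) :
    Nonempty (Split k K E a d l) := by
  have hψ : aeval (P k K E a) (∏ i, (Polynomial.X - C (l i))) = 0 := by rw [← hm, ← P_aeval, ha, map_zero]
  obtain ⟨hsum, horth, hidem⟩ := lagrange_idem l hl hd (P k K E a) hψ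
  choose M inc prj h₁ h₂ using fun i => IsIdempotentComplete.idempotents_split ((pf k K).obj E)
    (show (pf k K).obj E ⟶ (pf k K).obj E from aeval (P k K E a) (Lagrange.basis Finset.univ l i)) (hidem i)
  refine ⟨⟨M, inc, prj, h₁, fun i j hij => ?_, h₂, ?_⟩⟩
  · calc inc i ≫ prj j = inc i ≫ ((prj i ≫ inc i) ≫ (prj j ≫ inc j)) ≫ prj j := by
          simp only [Category.assoc, h₁, Category.comp_id, reassoc_of% (h₁ i)]
      _ = 0 := by
          rw [h₂ i, h₂ j, show (aeval (P k K E a) (Lagrange.basis Finset.univ l i) : (pf k K).obj E ⟶ (pf k K).obj E) ≫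
            aeval (P k K E a) (Lagrange.basis Finset.univ l j) = 0 from horth j i (Ne.symm hij)]
          simp
  · rw [Finset.sum_congr rfl fun i _ => h₂ i]
    exact hsum

section SplitLemmas

variable {k K} {E : X.Modules} {a : End E} {d : ℕ} {l : Fin d → K} (S : Split k K E a d l)

/-- The module is the coproduct of its parts. -/
theorem Split.nonempty_iso_sigma : Nonempty ((pf k K).obj E ≅ ∐ S.M) := by
  classical
  haveI : HasFiniteBiproducts (Curv2.bc k X K).Modules := Abelian.hasFiniteBiproducts
  refine ⟨(?_ : (pf k K).obj E ≅ ⨁ S.M) ≪≫ biproduct.isoCoproduct S.M⟩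
  refine ⟨biproduct.lift S.prj, biproduct.desc S.inc, ?_, ?_⟩
  · rw [biproduct.lift_desc]; exact S.total
  · refine biproduct.hom_ext' _ _ fun i => biproduct.hom_ext _ _ fun j => ?_
    simp only [Category.assoc, biproduct.lift_π, biproduct.ι_desc_assoc, Category.comp_id, biproduct.ι_π]
    by_cases h : i = j
    · subst h; simp [S.inc_prj]
    · simp [h, S.ortho i j h]

/-- Galois conjugation permutes the parts. -/
theorem Split.conj (hl : Function.Injective l) (σ : K ≃ₐ[k] K) {i j : Fin d}
    (hperm : ∀ t, ∃ t', σ (l t) = l t') (hij : σ (l i) = l j) :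
    Nonempty ((Scheme.Modules.pullback (GeomSS.bcHom k X σ.toAlgHom)).obj (S.M i) ≅ S.M j) := by
  classical
  let G := Scheme.Modules.pullback (GeomSS.bcHom k X σ.toAlgHom)
  let θ : G.obj ((pf k K).obj E) ≅ (pf k K).obj E := (GeomSS.θ k X σ.toAlgHom).app E
  have hev : ∀ q : K[X], G.map (aeval (P k K E a) q) ≫ θ.hom =
      θ.hom ≫ aeval (P k K E a) (q.map (σ.toAlgHom : K →+* K)) := by
    intro q
    induction q using Polynomial.induction_on with
    | C c =>
      rw [aeval_C, Polynomial.map_C, aeval_C, Algebra.algebraMap_eq_smul_one, Algebra.algebraMap_eq_smul_one]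
      show G.map (c • 𝟙 _) ≫ θ.hom = θ.hom ≫ (σ.toAlgHom c • 𝟙 _)
      rw [GeomSS.map_smul_bcHom, Linear.smul_comp, Linear.comp_smul, G.map_id, Category.id_comp, Category.comp_id]
    | add p q hp hq =>
      simp only [map_add, Polynomial.map_add]
      show G.map (aeval (P k K E a) p + aeval (P k K E a) q) ≫ θ.hom = θ.hom ≫ (_ + _)
      rw [G.map_add, Preadditive.add_comp, Preadditive.comp_add, hp, hq]
    | monomial n c ih =>
      rw [pow_succ', ← mul_assoc, mul_comm (C c) Polynomial.X, mul_assoc]
      generalize (C c * Polynomial.X ^ n : K[X]) = q at ih ⊢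
      rw [Polynomial.map_mul, Polynomial.map_X, map_mul, map_mul, aeval_X]
      show G.map (aeval (P k K E a) q ≫ (pf k K).map a) ≫ θ.hom = θ.hom ≫ (_ ≫ (pf k K).map a)
      rw [G.map_comp, Category.assoc,
        show G.map ((pf k K).map a) ≫ θ.hom = θ.hom ≫ (pf k K).map a from (GeomSS.θ k X σ.toAlgHom).hom.naturality a,
        ← Category.assoc, ih, Category.assoc]
  have hL : (Lagrange.basis Finset.univ l i).map (σ.toAlgHom : K →+* K) = Lagrange.basis Finset.univ l j := by
    choose π hπ using hperm
    have hinj : Function.Injective π := fun s t h => hl (σ.injective (by rw [hπ, hπ, h]))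
    refine Polynomial.eq_of_degrees_lt_of_eval_index_eq Finset.univ hl.injOn ?_ ?_ fun s _ => ?_
    · refine lt_of_le_of_lt Polynomial.degree_map_le ?_
      rw [Lagrange.degree_basis hl.injOn (Finset.mem_univ i)]
      exact_mod_cast Nat.sub_lt (Finset.card_pos.2 ⟨i, Finset.mem_univ i⟩) one_pos
    · rw [Lagrange.degree_basis hl.injOn (Finset.mem_univ j)]
      exact_mod_cast Nat.sub_lt (Finset.card_pos.2 ⟨j, Finset.mem_univ j⟩) one_pos
    · obtain ⟨t, rfl⟩ := (Finite.injective_iff_surjective.1 hinj) s
      conv_lhs => rw [← hπ t]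
      rw [show σ (l t) = (σ.toAlgHom : K →+* K) (l t) from rfl, eval_map_apply]
      by_cases hti : t = i
      · have : π t = j := hl (by rw [← hπ, hti, hij])
        rw [this, hti, Lagrange.eval_basis_self hl.injOn (Finset.mem_univ i),
          Lagrange.eval_basis_self hl.injOn (Finset.mem_univ j), map_one]
      · have hne : j ≠ π t := fun h => hti (hl (σ.injective (by rw [hπ, ← h, hij])))
        rw [Lagrange.eval_basis_of_ne (Ne.symm hti) (Finset.mem_univ t),
          Lagrange.eval_basis_of_ne hne (Finset.mem_univ (π t)), map_zero]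
  have key : G.map (S.prj i ≫ S.inc i) ≫ θ.hom = θ.hom ≫ S.prj j ≫ S.inc j := by
    rw [S.prj_inc, S.prj_inc, hev, hL]
  have key' : θ.hom ≫ (S.prj j ≫ S.inc j) ≫ θ.inv = G.map (S.prj i ≫ S.inc i) := by
    rw [← Category.assoc, ← key, Category.assoc, θ.hom_inv_id, Category.comp_id]
  refine ⟨⟨G.map (S.inc i) ≫ θ.hom ≫ S.prj j, S.inc j ≫ θ.inv ≫ G.map (S.prj i), ?_, ?_⟩⟩
  · calc _ = G.map (S.inc i) ≫ (θ.hom ≫ (S.prj j ≫ S.inc j) ≫ θ.inv) ≫ G.map (S.prj i) := by
          simp only [Category.assoc]
      _ = G.map (S.inc i ≫ (S.prj i ≫ S.inc i) ≫ S.prj i) := by rw [key']; simp only [G.map_comp, Category.assoc]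
      _ = _ := by simp only [Category.assoc, S.inc_prj, Category.comp_id]; exact G.map_id _
  · calc _ = S.inc j ≫ θ.inv ≫ (G.map (S.prj i ≫ S.inc i) ≫ θ.hom) ≫ S.prj j := by
          simp only [Category.assoc, G.map_comp]
      _ = _ := by
          rw [key]
          simp only [Category.assoc, Iso.inv_hom_id_assoc, reassoc_of% (S.inc_prj j), S.inc_prj]

include S in
theorem Split.isFinLocFree [IsLocallyNoetherian (Curv2.bc k X K)] {r : ℕ} (hE : FlatMod.IsFinLocFreeOfRank r E) (i : Fin d) :
    FlatMod.IsFinLocFree (S.M i) :=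
  ASBun21.isFinLocFree_of_retract (S.inc i) (S.prj i) (S.inc_prj i)
    (FinCov.isFinLocFree_of_rank (OX.isFinLocFreeOfRank_pullback _ hE))

end SplitLemmas

theorem grank_eq_sum {Y : Scheme.{u}} [IsIntegral Y] [IsLocallyNoetherian Y] {V : Y.Modules} (hV : Coh.IsCoh V) {d : ℕ}
    (M : Fin d → Y.Modules) (i : ∀ t, M t ⟶ V) (p : ∀ t, V ⟶ M t) (h₁ : ∀ t, i t ≫ p t = 𝟙 (M t))
    (h₀ : ∀ s t, s ≠ t → i s ≫ p t = 0) (htot : ∑ t, p t ≫ i t = 𝟙 V) :
    Euler.grank V = ∑ t, Euler.grank (M t) := by
  classical
  let η := genericPoint Y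
  letI : Field (Y.presheaf.stalk η) := CurvePoints.isField_stalk_genericPoint.toField
  let F := OX.stalk (X := Y) η
  haveI := Euler.stalk_finite hV η
  let e : (V.presheaf.stalk η) ≃ₗ[Y.presheaf.stalk η] (∀ t, (M t).presheaf.stalk η) :=
    LinearEquiv.ofBijective (LinearMap.pi fun t => QCoh.stalkLin (p t) η) ⟨by
      refine (injective_iff_map_eq_zero _).2 fun v hv => ?_
      have h2 : ∀ t, QCoh.stalkLin (p t) η v = 0 := fun t => congrFun hv t
      have h3 : ∀ (s : Finset (Fin d)), QCoh.stalkLin (∑ t ∈ s, p t ≫ i t) η v = 0 := fun s => by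
        induction s using Finset.induction with
        | empty =>
          obtain ⟨U, hU, w, rfl⟩ := TopCat.Presheaf.exists_germ_eq V.presheaf v
          rw [Finset.sum_empty, QCoh.stalkLin_germ]
          exact map_zero _
        | insert t s ht ih =>
          rw [Finset.sum_insert ht, stalkLin_add, ih, QCoh.stalkLin_comp, h2, map_zero, add_zero]
      have := h3 Finset.univ
      rwa [htot, QCoh.stalkLin_id] at this, fun w => ⟨∑ t, QCoh.stalkLin (i t) η (w t), funext fun t => by
        show QCoh.stalkLin (p t) η (∑ s, QCoh.stalkLin (i s) η (w s)) = w t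
        rw [map_sum, Finset.sum_eq_single t]
        · rw [← QCoh.stalkLin_comp, h₁, QCoh.stalkLin_id]
        · intro s _ hs
          rw [← QCoh.stalkLin_comp, h₀ s t hs]
          exact stalkLin_zero_apply _
        · exact fun h => absurd (Finset.mem_univ t) h⟩⟩
  haveI : ∀ t, Module.Finite (Y.presheaf.stalk η) ((M t).presheaf.stalk η) := fun t =>
    Module.Finite.of_surjective ((LinearMap.proj t).comp e.toLinearMap) ((Function.surjective_eval t).comp e.surjective)
  show Module.finrank _ _ = _
  rw [e.finrank_eq, Module.finrank_pi_fintype]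
  rfl
where
  stalkLin_zero_apply {A B : Y.Modules} (v : A.presheaf.stalk (genericPoint Y)) :
      QCoh.stalkLin (0 : A ⟶ B) (genericPoint Y) v = 0 := by
    obtain ⟨U, hU, w, rfl⟩ := TopCat.Presheaf.exists_germ_eq A.presheaf v
    rw [QCoh.stalkLin_germ]
    exact map_zero _
  stalkLin_add {A B : Y.Modules} (f g : A ⟶ B) (v : A.presheaf.stalk (genericPoint Y)) :
      QCoh.stalkLin (f + g) (genericPoint Y) v = QCoh.stalkLin f (genericPoint Y) v + QCoh.stalkLin g (genericPoint Y) v := by
    obtain ⟨U, hU, w, rfl⟩ := TopCat.Presheaf.exists_germ_eq A.presheaf v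
    rw [QCoh.stalkLin_germ, QCoh.stalkLin_germ, QCoh.stalkLin_germ, ← map_add]
    rfl

end GrothLib.GeomDec11
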