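import Groth.Agent.Lib.GeomDec11.Geom
import Groth.Agent.Lib.CurveLocus.Basic
import Groth.Agent.Lib.CurveMult.SepRat
import Groth.Agent.Lib.CurveMult.TwistHom

/-!
# Indecomposable bundles of prime rank on curves over finite fields that split geometrically
-/

set_option autoImplicit false
set_option linter.style.haveILetI false
set_option backward.isDefEq.respectTransparency false

universe u

open CategoryTheory CategoryTheory.Limits AlgebraicGeometry Polynomial

noncomputable section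

namespace GrothLib.GeomDec11

variable (k : Type u) [Field k] {X : Scheme.{u}} [X.Over (Spec (CommRingCat.of k))]
  [IsProper (X ↘ Spec (CommRingCat.of k))] [GeometricallyIntegral (X ↘ Spec (CommRingCat.of k))]

/-- The rational point of an extension. -/
def sectionBC (K : Type u) [Field K] [Algebra k K] (O : Spec (CommRingCat.of k) ⟶ X)
    (hO : O ≫ (X ↘ Spec (CommRingCat.of k)) = 𝟙 _) : Spec (CommRingCat.of K) ⟶ Curv2.bc k X K :=
  pullback.lift (Spec.map (CommRingCat.ofHom (algebraMap k K)) ≫ O) (𝟙 _) (by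
    rw [Category.assoc, hO, Category.comp_id, Category.id_comp])

theorem bc_setup (K : Type u) [Field K] [Algebra k K] (hdim : topologicalKrullDim ↥X = 1)
    (O : Spec (CommRingCat.of k) ⟶ X) (hO : O ≫ (X ↘ Spec (CommRingCat.of k)) = 𝟙 _) :
    IsIntegral (Curv2.bc k X K) ∧ IsLocallyNoetherian (Curv2.bc k X K) ∧ topologicalKrullDim ↥(Curv2.bc k X K) ≤ 1 ∧
      ∃ x : Curv2.bc k X K, Function.Surjective (Curv2.resMap K (Curv2.bc k X K) x) := by
  haveI := GeomSS.isProper_bcSnd k X (K := K)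
  haveI := Euler.isNoetherian_of_proper (X := Curv2.bc k X K) K
  refine ⟨ASBun21.isIntegral_bc (X ↘ Spec (CommRingCat.of k)) K, inferInstance, ?_, _,
    (CurveMult.bijective_resMap_of_section K (sectionBC k K O hO) (pullback.lift_snd _ _ _)
      (IsLocalRing.closedPoint K)).2⟩
  refine le_of_eq ?_
  rw [IsHomeomorph.topologicalKrullDim_eq _ (TopCat.homeoOfIso (Scheme.forgetToTop.mapIso
    (pullbackSymmetry (X ↘ Spec (CommRingCat.of k)) (Spec.map (CommRingCat.ofHom (algebraMap k K)))))).isHomeomorph,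
    CurveLocus.topologicalKrullDim_pullback, hdim]

variable [Finite k] (hdim : topologicalKrullDim ↥X = 1) (O : Spec (CommRingCat.of k) ⟶ X)
  (hO : O ≫ (X ↘ Spec (CommRingCat.of k)) = 𝟙 _) {r : ℕ} (hr : r.Prime) {E : X.Modules}
  (hE : FlatMod.IsFinLocFreeOfRank r E) (hind : ASBun21.Indec E)

include hdim O hO in
/-- The parts of a splitting have one rank and one degree. -/
theorem split_ranks {K : Type u} [Field K] [Algebra k K] {r : ℕ} {E : X.Modules}
    (hE : FlatMod.IsFinLocFreeOfRank r E) {a : End E} {d : ℕ} (hd : 0 < d) {l : Fin d → K}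
    (hl : Function.Injective l) (hconj : ∀ i j, ∃ σ : K ≃ₐ[k] K, σ (l i) = l j)
    (hperm : ∀ (σ : K ≃ₐ[k] K) t, ∃ t', σ (l t) = l t') (S : Split k K E a d l) :
    ∃ n, r = d * n ∧ (∀ i, FlatMod.IsFinLocFreeOfRank n (S.M i)) ∧
      ∀ i j, Curv2.deg K (Curv2.bc k X K) (S.M i) n = Curv2.deg K (Curv2.bc k X K) (S.M j) n := by
  obtain ⟨hint, hnoe, -, -⟩ := bc_setup k K hdim O hO
  haveI := hint
  haveI := hnoe
  haveI := GeomSS.isProper_bcSnd k X (K := K)
  haveI : ConnectedSpace ↥(Curv2.bc k X K) := inferInstance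
  choose n hn using fun i => ModelK.exists_rank_connected (S.isFinLocFree hE i)
  have hiso : ∀ i j, ∃ σ : K ≃ₐ[k] K,
      Nonempty ((Scheme.Modules.pullback (GeomSS.bcHom k X σ.toAlgHom)).obj (S.M i) ≅ S.M j) := fun i j => by
    obtain ⟨σ, hσ⟩ := hconj i j
    exact ⟨σ, S.conj hl σ (hperm σ) hσ⟩
  have hrk : ∀ i j, n j = n i := fun i j => by
    obtain ⟨σ, ⟨e⟩⟩ := hiso i j
    rw [← Euler.grank_of_locFree (hn j), ← Euler.grank_of_iso e,
      Euler.grank_of_locFree (OX.isFinLocFreeOfRank_pullback _ (hn i))]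
  let i₀ : Fin d := ⟨0, hd⟩
  have hEK : FlatMod.IsFinLocFreeOfRank r ((pf k K).obj E) := OX.isFinLocFreeOfRank_pullback _ hE
  have hsum := grank_eq_sum (Euler.isCoh_of_isFinLocFree (FinCov.isFinLocFree_of_rank hEK)) S.M S.inc S.prj
    S.inc_prj S.ortho S.total
  rw [Euler.grank_of_locFree hEK, Finset.sum_congr rfl (fun i _ => (Euler.grank_of_locFree (hn i)).trans (hrk i₀ i)),
    Finset.sum_const, Finset.card_univ, Fintype.card_fin, smul_eq_mul] at hsum
  refine ⟨n i₀, hsum, fun i => hrk i₀ i ▸ hn i, fun i j => ?_⟩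
  obtain ⟨σ, ⟨e⟩⟩ := hiso i j
  haveI := (Euler.isCoh_of_isFinLocFree (S.isFinLocFree hE i)).1
  have h := Euler.euler_of_iso K e
  rw [GeomSS.euler_of_sq _ _ (GeomSS.isPullback_bcHom k X σ.toAlgHom)] at h
  simp only [Curv2.deg, h]

omit [Finite k] in
theorem root_perm {K : Type u} [Field K] [Algebra k K] {m : k[X]} {d : ℕ} {l : Fin d → K}
    (hm : m.map (algebraMap k K) = ∏ i, (Polynomial.X - C (l i))) (σ : K ≃ₐ[k] K) (t : Fin d) :
    ∃ t', σ (l t) = l t' := by
  have h0 : aeval (l t) m = 0 := by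
    rw [← eval_map_algebraMap, hm, eval_prod]
    exact Finset.prod_eq_zero (Finset.mem_univ t) (by simp)
  have h1 : aeval (σ (l t)) m = 0 := by
    rw [show σ (l t) = σ.toAlgHom (l t) from rfl, aeval_algHom_apply, h0, map_zero]
  rw [← eval_map_algebraMap, hm, eval_prod, Finset.prod_eq_zero_iff] at h1
  obtain ⟨t', -, ht'⟩ := h1
  exact ⟨t', by simpa [sub_eq_zero] using ht'⟩

include hdim O hO hr hE hind in
/-- The centre of the endomorphisms: a field of degree the rank. -/
theorem exists_field_deg (hdec : ∃ (K : Type u) (_ : Field K) (_ : Algebra k K) (E₁ E₂ : (Curv2.bc k X K).Modules),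
      ¬ IsZero E₁ ∧ ¬ IsZero E₂ ∧ Nonempty ((Scheme.Modules.pullback (Curv2.bcFst k X K)).obj E ≅ E₁ ⊞ E₂)) :
    ∃ (a : End E) (m : k[X]) (I : Submodule k (End E)), m.Monic ∧ Irreducible m ∧ m.natDegree = r ∧
      aeval a m = 0 ∧ IsNilpotent I ∧ (∀ x, ∃ q : k[X], x - aeval a q ∈ I) ∧ (∀ x y, x * y - y * x ∈ I) := by
  haveI := Euler.isNoetherian_of_proper (X := X) k
  have hEc : Coh.IsCoh E := Euler.isCoh_of_isFinLocFree (FinCov.isFinLocFree_of_rank hE)
  obtain ⟨a, m, I, hm, hi, ha, hI, hsurj, hcomm⟩ := exists_endData k hEc hind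
  refine ⟨a, m, I, hm, hi, ?_, ha, hI, hsurj, hcomm⟩
  haveI := Fact.mk hi
  have hK : Module.finrank k (AdjoinRoot m) = m.natDegree := by
    rw [(AdjoinRoot.powerBasis hi.ne_zero).finrank, AdjoinRoot.powerBasis_dim]
  obtain ⟨l, hl, hml, hconj⟩ := exists_roots (AdjoinRoot m) hm hi hK
  obtain ⟨S⟩ := exists_split k (AdjoinRoot m) ha hi.natDegree_pos l hl hml
  obtain ⟨n, hn, -, -⟩ := split_ranks k hdim O hO hE hi.natDegree_pos hl hconj (root_perm k hml) S
  rcases hr.eq_one_or_self_of_dvd _ ⟨n, hn⟩ with h1 | h1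
  · exfalso
    obtain ⟨K, _, _, E₁, E₂, h₁, h₂, ⟨e⟩⟩ := hdec
    let z : End ((pf k K).obj E) := e.hom ≫ biprod.fst ≫ biprod.inl ≫ e.inv
    have hz : z * z = z := by
      show (e.hom ≫ biprod.fst ≫ biprod.inl ≫ e.inv) ≫ (e.hom ≫ biprod.fst ≫ biprod.inl ≫ e.inv) =
        e.hom ≫ biprod.fst ≫ biprod.inl ≫ e.inv
      simp
    rcases idem_trivial k K hEc I hI hm h1 ha hsurj z hz with h | h
    · refine h₁ ((IsZero.iff_id_eq_zero E₁).2 ?_)
      have := congrArg (fun t : (pf k K).obj E ⟶ (pf k K).obj E => biprod.inl ≫ e.inv ≫ t ≫ e.hom ≫ biprod.fst)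
        (h : z = (0 : (pf k K).obj E ⟶ (pf k K).obj E))
      simpa [z] using this
    · refine h₂ ((IsZero.iff_id_eq_zero E₂).2 ?_)
      have := congrArg (fun t : (pf k K).obj E ⟶ (pf k K).obj E => biprod.inr ≫ e.inv ≫ t ≫ e.hom ≫ biprod.snd)
        (h : z = (𝟙 _ : (pf k K).obj E ⟶ (pf k K).obj E))
      simpa [z] using this.symm
  · exact h1

include hdim O hO hr hE hind in
/-- The parts over an extension of degree the rank. -/
theorem exists_pieces {a : End E} {m : k[X]} {I : Submodule k (End E)} (hm : m.Monic) (hi : Irreducible m)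
    (hd : m.natDegree = r) (ha : aeval a m = 0) (hI : IsNilpotent I) (hcomm : ∀ x y, x * y - y * x ∈ I)
    (K : Type u) [Field K] [Algebra k K] (hK : Module.finrank k K = r) :
    ∃ (l : Fin r → K) (S : Split k K E a r l), Function.Injective l ∧ (∀ i, PicF.IsInvertible (S.M i)) ∧
      (∀ i j, i ≠ j → ¬ Nonempty (S.M i ≅ S.M j)) ∧
      (∀ i j, Curv2.deg K (Curv2.bc k X K) (S.M i) 1 = Curv2.deg K (Curv2.bc k X K) (S.M j) 1) ∧
      (∀ i (L : X.Modules), PicF.IsInvertible L → ¬ Nonempty (S.M i ≅ (pf k K).obj L)) := by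
  haveI := Euler.isNoetherian_of_proper (X := X) k
  haveI : IsIntegral X := GeometricallyIntegral.isIntegral_of_subsingleton (X ↘ Spec (CommRingCat.of k))
  have hEc : Coh.IsCoh E := Euler.isCoh_of_isFinLocFree (FinCov.isFinLocFree_of_rank hE)
  subst hd
  obtain ⟨l, hl, hml, hconj⟩ := exists_roots K hm hi hK
  obtain ⟨S⟩ := exists_split k K ha hi.natDegree_pos l hl hml
  obtain ⟨n, hn, hrank, hdeg⟩ := split_ranks k hdim O hO hE hi.natDegree_pos hl hconj (root_perm k hml) S
  obtain rfl : n = 1 := by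
    have := hi.natDegree_pos
    nlinarith
  obtain ⟨hint, hnoe, -, -⟩ := bc_setup k K hdim O hO
  haveI := hint
  haveI := hnoe
  haveI : Nonempty ↥(Curv2.bc k X K) := inferInstance
  have hinv : ∀ i, PicF.IsInvertible (S.M i) := fun i => CurveMult.isInvertible_of_rank_one (hrank i)
  have hne : ∀ i, S.prj i ≫ S.inc i ≠ 0 := fun i h => ASBun21.not_isZero_of_isInvertible (hinv i)
    ((IsZero.iff_id_eq_zero _).2 (by
      have := congrArg (fun t => S.inc i ≫ t ≫ S.prj i) h
      simpa [reassoc_of% (S.inc_prj i), S.inc_prj] using this))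
  refine ⟨l, S, hl, hinv, fun i j hij ⟨u⟩ => ?_, hdeg, fun i L hL ⟨u⟩ => ?_⟩
  · let x : End ((pf k K).obj E) := S.prj i ≫ u.hom ≫ S.inc j
    let y : End ((pf k K).obj E) := S.prj j ≫ u.inv ≫ S.inc i
    let ei : End ((pf k K).obj E) := S.prj i ≫ S.inc i
    let ej : End ((pf k K).obj E) := S.prj j ≫ S.inc j
    have h1 : y * x = ei := by
      show (S.prj i ≫ u.hom ≫ S.inc j) ≫ S.prj j ≫ u.inv ≫ S.inc i = S.prj i ≫ S.inc i
      simp [reassoc_of% (S.inc_prj j)]
    have h2 : x * y = ej := by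
      show (S.prj j ≫ u.inv ≫ S.inc i) ≫ S.prj i ≫ u.hom ≫ S.inc j = S.prj j ≫ S.inc j
      simp [reassoc_of% (S.inc_prj i)]
    obtain ⟨N, hN⟩ := isNilpotent_of_mem_W k K I hI (comm_mem_W k K hEc I hcomm y x)
    rw [h1, h2] at hN
    have eii : ei * ei = ei := by
      show (S.prj i ≫ S.inc i) ≫ (S.prj i ≫ S.inc i) = S.prj i ≫ S.inc i
      simp [reassoc_of% (S.inc_prj i)]
    have ejj : ej * ej = ej := by
      show (S.prj j ≫ S.inc j) ≫ (S.prj j ≫ S.inc j) = S.prj j ≫ S.inc j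
      simp [reassoc_of% (S.inc_prj j)]
    have eij : ei * ej = 0 := by
      show (S.prj j ≫ S.inc j) ≫ (S.prj i ≫ S.inc i) = 0
      simp [reassoc_of% (S.ortho j i (Ne.symm hij))]
    have eji : ej * ei = 0 := by
      show (S.prj i ≫ S.inc i) ≫ (S.prj j ≫ S.inc j) = 0
      simp [reassoc_of% (S.ortho i j hij)]
    have hsq : ei * (ei - ej) = ei := by rw [mul_sub, eii, eij, sub_zero]
    have hk : ∀ t, ei * (ei - ej) ^ t = ei := fun t => by
      induction t with
      | zero => simp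
      | succ t ih => rw [pow_succ, ← mul_assoc, ih, hsq]
    exact hne i ((hk N).symm.trans (by rw [hN, mul_zero]) : ei = 0)
  · obtain ⟨x, hx⟩ : ∃ x : X, Function.Surjective (Curv2.resMap k X x) :=
      ⟨_, (CurveMult.bijective_resMap_of_section k O hO (IsLocalRing.closedPoint k)).2⟩
    have hLc := Euler.isCoh_of_isInvertible hL
    let b := Module.Basis.ofVectorSpace k K
    obtain ⟨s, φ, hφ⟩ := pf_expansion k K b hEc hLc (S.prj i ≫ u.hom)
    obtain ⟨t, θ, hθ⟩ := pf_expansion k K b hLc hEc (u.inv ≫ S.inc i)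
    obtain ⟨p, q, hpq⟩ : ∃ p q, θ q ≫ φ p ≠ 0 := by
      by_contra hc
      push_neg at hc
      have h : (u.inv ≫ S.inc i) ≫ (S.prj i ≫ u.hom) = 0 := by
        rw [hφ, hθ]
        simp only [Preadditive.sum_comp, Preadditive.comp_sum, Linear.smul_comp, Linear.comp_smul,
          ← Functor.map_comp, hc, Functor.map_zero, smul_zero, Finset.sum_const_zero]
      have h' : 𝟙 ((pf (X := X) k K).obj L) = 0 := by
        rw [← h]
        simp [reassoc_of% (S.inc_prj i)]
      exact ASBun21.not_isZero_of_isInvertible hL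
        ((IsZero.iff_id_eq_zero L).2 (pf_faithful k K hLc _ (by rw [CategoryTheory.Functor.map_id]; exact h')))
    obtain ⟨c, hc : (CurveMult.endScalar k L c : L ⟶ L) = θ q ≫ φ p⟩ :=
      (AutSum11.endScalar_bijective hdim.le hx hL).2 (θ q ≫ φ p)
    have hc' : θ q ≫ φ p = c • 𝟙 L := by rw [← hc, KLin.smul_id]; rfl
    have hc0 : c ≠ 0 := fun h => hpq (by rw [hc', h, zero_smul])
    have hLE : (c⁻¹ • θ q) ≫ φ p = 𝟙 L := by
      rw [Linear.smul_comp, hc', smul_smul, inv_mul_cancel₀ hc0, one_smul]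
    rcases hind.idem (φ p ≫ (c⁻¹ • θ q)) (by rw [Category.assoc, reassoc_of% hLE]) with h | h
    · apply ASBun21.not_isZero_of_isInvertible hL
      refine (IsZero.iff_id_eq_zero L).2 ?_
      have := congrArg (fun t => (c⁻¹ • θ q) ≫ t ≫ φ p) h
      rw [Category.assoc, hLE] at this
      simpa [reassoc_of% hLE, hLE] using this
    · have e : E ≅ L := ⟨φ p, c⁻¹ • θ q, h, hLE⟩
      have h1 := Euler.grank_of_iso e
      rw [Euler.grank_of_locFree hE, Euler.grank_of_locFree (Euler.isFinLocFreeOfRank_one' hL)] at h1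
      exact hr.one_lt.ne' h1

include hdim O hO hr hE hind in
/-- The endomorphisms form the field. -/
theorem exists_end_equiv {a : End E} {m : k[X]} {I : Submodule k (End E)} (hm : m.Monic) (hi : Irreducible m)
    (hd : m.natDegree = r) (ha : aeval a m = 0) (hI : IsNilpotent I)
    (hsurj : ∀ x, ∃ q : k[X], x - aeval a q ∈ I) (hcomm : ∀ x y, x * y - y * x ∈ I) :
    Nonempty (AdjoinRoot m ≃ₐ[k] End E) := by
  haveI := Euler.isNoetherian_of_proper (X := X) k
  have hEc : Coh.IsCoh E := Euler.isCoh_of_isFinLocFree (FinCov.isFinLocFree_of_rank hE)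
  haveI := Fact.mk hi
  let K := AdjoinRoot m
  have hK : Module.finrank k K = r := by
    rw [(AdjoinRoot.powerBasis hi.ne_zero).finrank, AdjoinRoot.powerBasis_dim, hd]
  obtain ⟨l, S, hl, hinv, hniso, hdeg, -⟩ := exists_pieces k hdim O hO hr hE hind hm hi hd ha hI hcomm K hK
  obtain ⟨hint, hnoe, hdK, x, hx⟩ := bc_setup k K hdim O hO
  haveI := hint
  haveI := GeomSS.isProper_bcSnd k X (K := K)
  have hI0 : ∀ y ∈ I, y = 0 := fun y hy => by
    obtain ⟨N, hN⟩ := isNilpotent_of_mem_W k K I hI (P_mem_W k K I hy)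
    let z : (pf k K).obj E ⟶ (pf k K).obj E := (pf (X := X) k K).map y
    have hz : ∀ i, ∃ c : K, S.inc i ≫ z = c • S.inc i := fun i => by
      obtain ⟨c, hc : (CurveMult.endScalar K (S.M i) c : S.M i ⟶ S.M i) = S.inc i ≫ z ≫ S.prj i⟩ :=
        (AutSum11.endScalar_bijective hdK hx (hinv i)).2 (S.inc i ≫ z ≫ S.prj i)
      refine ⟨c, ?_⟩
      calc S.inc i ≫ z = S.inc i ≫ z ≫ ∑ j, S.prj j ≫ S.inc j := by rw [S.total, Category.comp_id]
        _ = ∑ j, (S.inc i ≫ z ≫ S.prj j) ≫ S.inc j := by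
            simp only [Preadditive.comp_sum, Category.assoc]
        _ = (S.inc i ≫ z ≫ S.prj i) ≫ S.inc i := by
            refine Finset.sum_eq_single i (fun j _ hj => ?_) (fun h => absurd (Finset.mem_univ i) h)
            rw [AutSum11.hom_eq_zero hdK (hinv i) (hinv j) (hdeg j i).le (hniso i j (Ne.symm hj))
              (S.inc i ≫ z ≫ S.prj j), CategoryTheory.Limits.zero_comp]
        _ = c • S.inc i := by
            rw [← hc, show (CurveMult.endScalar K (S.M i) c : S.M i ⟶ S.M i) = c • 𝟙 (S.M i) by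
              rw [KLin.smul_id]; rfl, Linear.smul_comp, Category.id_comp]
    choose c hc using hz
    have hp : ∀ (i : Fin r) (t : ℕ), S.inc i ≫ ((P k K E y ^ t : End ((pf k K).obj E)) : (pf k K).obj E ⟶ (pf k K).obj E) =
        (c i) ^ t • S.inc i := fun i t => by
      induction t with
      | zero => rw [pow_zero, pow_zero, one_smul]; exact Category.comp_id _
      | succ t ih =>
        rw [pow_succ', pow_succ']
        show S.inc i ≫ (P k K E y ^ t : End ((pf k K).obj E)) ≫ z = _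
        rw [← Category.assoc, ih, Linear.smul_comp, hc, smul_smul, mul_comm]
    have hc0 : ∀ i, c i = 0 := fun i => by
      have h := hp i N
      rw [hN] at h
      have h' : (c i) ^ N • 𝟙 (S.M i) = 0 := by
        rw [← S.inc_prj i, ← Linear.smul_comp, ← h]
        exact (congrArg (· ≫ S.prj i) CategoryTheory.Limits.comp_zero).trans CategoryTheory.Limits.zero_comp
      refine eq_zero_of_pow_eq_zero ((smul_eq_zero.1 h').resolve_right fun h1 => ?_)
      exact ASBun21.not_isZero_of_isInvertible (hinv i) ((IsZero.iff_id_eq_zero _).2 h1)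
    refine pf_faithful k K hEc y ?_
    show z = 0
    calc z = (∑ j, S.prj j ≫ S.inc j) ≫ z := by rw [S.total, Category.id_comp]
      _ = 0 := by simp only [Preadditive.sum_comp, Category.assoc, hc, hc0, zero_smul, CategoryTheory.Limits.comp_zero, Finset.sum_const_zero]
  haveI : Nontrivial (End E) := ⟨⟨𝟙 E, 0, fun h => hind.1 ((IsZero.iff_id_eq_zero E).2 h)⟩⟩
  let f : K →ₐ[k] End E := Ideal.Quotient.liftₐ (Ideal.span {m}) (aeval a) (fun q hq => by
    obtain ⟨w, rfl⟩ := Ideal.mem_span_singleton.1 hq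
    rw [map_mul, ha, zero_mul])
  refine ⟨AlgEquiv.ofBijective f ⟨RingHom.injective f.toRingHom, fun y => ?_⟩⟩
  obtain ⟨q, hq⟩ := hsurj y
  refine ⟨AdjoinRoot.mk m q, ?_⟩
  show aeval a q = y
  exact (sub_eq_zero.1 (hI0 _ hq)).symm

end GrothLib.GeomDec11
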